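import Cfsg.Agent.H95.Co1Inv.Image
import Cfsg.Agent.H43.Simple
import Cfsg.Agent.H68.CharP

/-!
An involution of the first Conway group with centraliser `2^{1+8}.Ω⁺(8, 2)`.
-/

set_option autoImplicit false

namespace H95.Co1Inv

open Cfsg Finset H95.Co2Cent H43

/-- points outside the octad are separated by the words disjoint from it -/
theorem separated : ∀ i j : Fin 24, onOct (H90.pt i) = false → onOct (H90.pt j) = false → i ≠ j →
    discL.any (fun n => (H90.encode n).testBit i.val != (H90.encode n).testBit j.val) = true := by
  decide +kernel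

theorem disc_off : ∀ p : GolayPt, onOct p = true →
    discL.all (fun n => !(H90.encode n).testBit (H90.idx p).val) = true := by decide +kernel

theorem perms_fix : ∀ p : GolayPt, onOct p = true →
    fixOctL.all (fun q => H90.img q (H90.idx p).val == (H90.idx p).val) = true := by decide +kernel

theorem perms_trans : ∀ j : Fin 24, onOct (H90.pt j) = false →
    fixOctL.any (fun q => H90.img q 1 == j.val) = true := by decide +kernel

theorem pair_words : ∀ i j : Fin 24, onOct (H90.pt i) = true → onOct (H90.pt j) = true → i ≠ j →
    (List.range 4096).any (fun n => ((H90.encode n).testBit i.val != (H90.encode n).testBit j.val) &&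
      H90.popc (H90.encode n &&& octN) != 4) = true := by decide +kernel

theorem fix_pointwise {n p : ℕ} (hn : n ∈ discL) (hp : p ∈ fixOctL) {u : leechLattice}
    (hu : u ∈ fixPart) : (signW n * permHom (permN p)) • u = u := by
  have hP : permHom (permN p) • u = u := Subtype.ext (funext fun x => by
    rw [permHom_apply]
    cases hx : onOct x
    · rw [hu x hx]
      refine hu _ ?_
      cases hy : onOct ((permN p).1.symm x)
      · rfl
      · exfalso
        have h := (permN_repr (perm_spec hp).1).apply ((permN p).1.symm x)
        rw [Equiv.apply_symm_apply, beq_iff_eq.mp (List.all_eq_true.mp (perms_fix _ hy) p hp)] at h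
        rw [← H90.idx_injective (Fin.ext h)] at hy
        rw [hx] at hy
        exact absurd hy (by simp)
    · have hfx : (permN p).1.symm x = x := by
        rw [Equiv.symm_apply_eq]
        refine H90.idx_injective (Fin.ext ?_)
        rw [(permN_repr (perm_spec hp).1).apply, beq_iff_eq.mp (List.all_eq_true.mp (perms_fix _ hx) p hp)]
      rw [hfx])
  rw [mul_smul, hP]
  refine Subtype.ext (funext fun x => ?_)
  rw [signW_coord]
  cases hx : onOct x
  · rw [hu x hx]; simp
  · have := List.all_eq_true.mp (disc_off x hx) n hn
    simp only [Bool.not_eq_true'] at this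
    rw [this]
    rfl

theorem signEl_one : signEl ⟨1, one_mem_code⟩ = negOne := co0_ext fun v => Subtype.ext (funext fun i => by
  rw [signEl_coord, negOne_smul, AddSubgroup.coe_neg, Pi.neg_apply]
  simp)

theorem signW_all : signW 4095 = negOne := by
  rw [signW, ← signEl_one]
  exact congrArg signEl (Subtype.ext (funext fun p => (H90.one_eq p).symm))

theorem octWord_mem : H90.wordOf octN ∈ golayCode :=
  (H90.wordOf_mem_iff (by decide +kernel)).mpr (by decide +kernel)

theorem signEl_oct : signEl ⟨H90.wordOf octN, octWord_mem⟩ = negOne * tEl :=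
  co0_ext fun v => Subtype.ext (funext fun p => by
    rw [signEl_coord, mul_smul, negOne_smul, AddSubgroup.coe_neg, Pi.neg_apply, tEl_coord]
    have e : H90.wordOf octN p ≠ 0 ↔ onOct p = true := by
      show (if octN.testBit (H90.idx p).val then (1 : ZMod 2) else 0) ≠ 0 ↔ octN.testBit (H90.idx p).val = true
      cases octN.testBit (H90.idx p).val <;> simp
    simp only [e]
    cases onOct p <;> simp)

theorem eight_outside {p : GolayPt} (hp : onOct p = false) : tEl • eight p = -eight p :=
  Subtype.ext (funext fun q => by
    rw [tEl_coord, AddSubgroup.coe_neg, Pi.neg_apply]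
    cases hq : onOct q
    · rfl
    · have hne : q ≠ p := fun e => by rw [e, hp] at hq; exact absurd hq (by simp)
      have h0 : (eight p : GolayPt → ℤ) q = 0 := Pi.single_eq_of_ne hne _
      simp [h0])

/-- the only elements centralising the kernel are `±1, ±t` -/
theorem cent_kernel {x : Co0} (ht : x * tEl = tEl * x) (hS : ∀ n ∈ discL, x * signW n = signW n * x)
    (hP : ∀ p ∈ fixOctL, x * permHom (permN p) = permHom (permN p) * x) :
    x = 1 ∨ x = negOne ∨ x = tEl ∨ x = negOne * tEl := by
  have himg : ∀ p, onOct p = false → x • eight p = eight p ∨ x • eight p = -eight p := by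
    intro p hp
    set u := x • eight p with hu
    have hO : ∀ q, onOct q = true → (u : GolayPt → ℤ) q = 0 := by
      intro q hq
      have : tEl • u = -u := by rw [hu, ← mul_smul, ← ht, mul_smul, eight_outside hp, co0_neg]
      have e := congrArg (fun w : leechLattice => (w : GolayPt → ℤ) q) this
      simp only [tEl_coord, hq, if_true, AddSubgroup.coe_neg, Pi.neg_apply] at e
      omega
    have hsep : ∀ q, onOct q = false → q ≠ p → (u : GolayPt → ℤ) q = 0 := by
      intro q hq hne
      obtain ⟨n, hn, hb⟩ := List.any_eq_true.mp (separated (H90.idx p) (H90.idx q)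
        (by rwa [H90.pt_idx]) (by rwa [H90.pt_idx]) (fun e => hne (H90.idx_injective e.symm)))
      simp only [bne_iff_ne] at hb
      have key : ∀ r : GolayPt, (eight p : GolayPt → ℤ) r ≠ 0 → r = p := fun r hr => by
        by_contra h0
        exact hr (Pi.single_eq_of_ne h0 _)
      have hcases : signW n • eight p = if (H90.encode n).testBit (H90.idx p).val then -eight p else eight p := by
        refine Subtype.ext (funext fun r => ?_)
        rw [signW_coord]
        by_cases hr : r = p
        · subst hr; split <;> rfl
        · have h0 : (eight p : GolayPt → ℤ) r = 0 := Pi.single_eq_of_ne hr _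
          split <;> split <;> simp [h0]
      have : signW n • u = if (H90.encode n).testBit (H90.idx p).val then -u else u := by
        rw [hu, ← mul_smul, ← hS n hn, mul_smul, hcases]
        split <;> simp [co0_neg]
      have e := congrArg (fun w : leechLattice => (w : GolayPt → ℤ) q) this
      simp only [signW_coord] at e
      cases hA : (H90.encode n).testBit (H90.idx p).val <;>
        cases hB : (H90.encode n).testBit (H90.idx q).val <;> simp [hA, hB] at e hb <;> omega
    have hsingle : (u : GolayPt → ℤ) = Pi.single p ((u : GolayPt → ℤ) p) := funext fun q => by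
      by_cases hq : q = p
      · subst hq; rw [Pi.single_eq_same]
      · rw [Pi.single_eq_of_ne hq]
        cases hO' : onOct q
        · exact hsep q hO' hq
        · exact hO q hO'
    have hn : ldot u u = 64 := by rw [hu, co0_dot, eight_norm]
    set c := (u : GolayPt → ℤ) p with hc
    have h2 : dotInt (Pi.single p c : GolayPt → ℤ) (Pi.single p c) = 64 := by rw [← hsingle]; exact hn
    rw [dotInt_single_right, Pi.single_eq_same] at h2
    have : c = 8 ∨ c = -8 := by
      rcases mul_self_eq_mul_self_iff.mp (show c * c = 8 * 8 by linarith) with h | h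
      · exact Or.inl h
      · exact Or.inr h
    exact eight_single this hsingle
  have hoff : onOct (some 1) = false := by decide +kernel
  have hstd : x ∈ stdGrp := by
    rcases himg _ hoff with h | h
    · exact mem_stdGrp_of_image h
    · have hneg : negOne ∈ stdGrp := ⟨1, fun i => ⟨-8, Or.inr rfl, by
        rw [negOne_smul]; exact (Pi.single_neg i 8).symm⟩⟩
      have h2 : (negOne * x) • eight (some 1) = eight (some 1) := by rw [mul_smul, negOne_smul, h, neg_neg]
      simpa using stdGrp.mul_mem (stdGrp.inv_mem hneg) (mem_stdGrp_of_image h2)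
  obtain ⟨σ, hσ⟩ := hstd
  have hfix : ∀ p, onOct p = false → σ p = p := by
    intro p hp
    obtain ⟨s, hs, e⟩ := hσ p
    rcases himg p hp with h | h <;> rw [h] at e
    · exact single_eq_eight e
    · refine single_eq_eight (s := -s) ?_
      rw [AddSubgroup.coe_neg] at e
      rw [Pi.single_neg, ← e, neg_neg]
  obtain ⟨c, hσM, hc, he⟩ := hσ.exists_mono
  obtain ⟨d, hd⟩ := mono_eq_sign_mul hσM hc
  have hσ1 : σ = 1 := by
    refine Equiv.ext fun q => ?_
    rw [Equiv.Perm.one_apply]
    cases hq : onOct q
    · exact hfix q hq
    by_contra hne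
    have hq' : onOct (σ q) = true := by
      cases h : onOct (σ q)
      · exact absurd (σ.injective (hfix _ h)) hne
      · rfl
    obtain ⟨n, hn, hb⟩ := List.any_eq_true.mp (pair_words (H90.idx (σ q)) (H90.idx q)
      (by rwa [H90.pt_idx]) (by rwa [H90.pt_idx]) (fun e => hne (H90.idx_injective e)))
    simp only [Bool.and_eq_true, bne_iff_ne] at hb
    set w := H90.wordOf (H90.encode n) with hw
    have hwm : w ∈ golayCode := H90.wordOf_encode_mem n
    set a := w + fun x => w (σ.symm x) with ha
    have ham : a ∈ golayCode := add_mem hwm (perm_symm_mem_code hσM hwm)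
    have ha0 : ∀ p, onOct p = false → a p = 0 := fun p hp => by
      show w p + w (σ.symm p) = 0
      rw [(Equiv.symm_apply_eq σ).mpr (hfix p hp).symm]
      exact zmod2_double _
    have hval : a (σ q) = w (σ q) + w q := by
      show w (σ q) + w (σ.symm (σ q)) = _
      rw [Equiv.symm_apply_apply]
    rcases word_on_oct ham ha0 with h | h
    · rw [h] at hval
      have : w (σ q) = w q := (show ∀ a b : ZMod 2, 0 = a + b → a = b by decide) _ _ hval
      simp only [hw, H90.wordOf] at this
      cases hA : (H90.encode n).testBit (H90.idx (σ q)).val <;>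
        cases hB : (H90.encode n).testBit (H90.idx q).val <;> simp [hA, hB] at this hb
    · refine hb.2 ?_
      have hflip : ∀ x, onOct x = true → w (σ.symm x) = w x + 1 := fun x hx => by
        have h1 : w x + w (σ.symm x) = 1 := by
          show a x = 1
          rw [h]
          show (if octN.testBit (H90.idx x).val then (1 : ZMod 2) else 0) = 1
          rw [show octN.testBit (H90.idx x).val = true from hx]
          rfl
        exact (show ∀ a b : ZMod 2, a + b = 1 → b = a + 1 by decide) _ _ h1
      set A := (univ.filter fun x => onOct x = true ∧ w x = 1) with hA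
      set B := (univ.filter fun x => onOct x = true ∧ w x = 0) with hB
      have hAB : A.card = B.card := by
        refine Finset.card_bij (fun x _ => σ.symm x) (fun x hx => ?_) (fun _ _ _ _ e => σ.symm.injective e)
          (fun x hx => ?_)
        · simp only [hA, hB, mem_filter, mem_univ, true_and] at hx ⊢
          have ho : onOct (σ.symm x) = true := by
            cases h' : onOct (σ.symm x)
            · have := hfix _ h'
              rw [Equiv.apply_symm_apply] at this
              rw [← this, hx.1] at h'; exact absurd h' (by simp)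
            · rfl
          exact ⟨ho, by rw [hflip x hx.1, hx.2]; rfl⟩
        · simp only [hA, hB, mem_filter, mem_univ, true_and] at hx ⊢
          have ho : onOct (σ x) = true := by
            cases h' : onOct (σ x)
            · rw [σ.injective (hfix _ h')] at h'; rw [hx.1] at h'; exact absurd h' (by simp)
            · rfl
          refine ⟨σ x, ⟨ho, ?_⟩, σ.symm_apply_apply x⟩
          have := hflip (σ x) ho
          rw [Equiv.symm_apply_apply, hx.2] at this
          exact (show ∀ a : ZMod 2, 0 = a + 1 → a = 1 by decide) _ this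
      have hsum : A.card + B.card = 8 := by
        rw [← card_union_of_disjoint (disjoint_left.mpr fun x hx hx' => by
          simp only [hA, hB, mem_filter] at hx hx'; rw [hx.2.2] at hx'; exact absurd hx'.2.2 (by decide)),
          show A ∪ B = univ.filter fun x => onOct x = true from by
            ext x
            simp only [hA, hB, mem_union, mem_filter, mem_univ, true_and]
            rcases H90.zmod2_cases (w x) with e | e <;> simp [e]]
        decide +kernel
      have hA4 : A.card = H90.popc (H90.encode n &&& octN) := by
        rw [← H90.card_setOf']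
        congr 1
        ext x
        simp only [hA, mem_filter, mem_univ, true_and, H90.mem_setOf', Nat.testBit_and, hw, H90.wordOf,
          onOct]
        cases (H90.encode n).testBit (H90.idx x).val <;> cases octN.testBit (H90.idx x).val <;> simp
      omega
  subst hσ1
  have hx : x = signEl d := by
    rw [he, hd, show (⟨1, hσM⟩ : M24) = 1 from rfl, map_one, mul_one]
  have hconst : ∀ q, onOct q = false → d.1 q = d.1 (some 1) := by
    intro q hq
    obtain ⟨p, hp, hb⟩ := List.any_eq_true.mp (perms_trans (H90.idx q) (by rwa [H90.pt_idx]))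
    have hmove : (permN p).1 (some 1) = q := H90.idx_injective (Fin.ext (by
      rw [(permN_repr (perm_spec hp).1).apply]; exact beq_iff_eq.mp hb))
    have e := congrArg (fun g : Co0 => ((g • eight (some 1) : leechLattice) : GolayPt → ℤ) q) (hP p hp)
    simp only [hx, mul_smul, permHom_eight, hmove, signEl_coord, permHom_apply,
      (Equiv.symm_apply_eq (permN p).1).mpr hmove.symm] at e
    have h8g : ∀ r : GolayPt, (eight r : GolayPt → ℤ) r = 8 := fun r => by
      show (Pi.single r 8 : GolayPt → ℤ) r = 8
      exact Pi.single_eq_same _ _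
    have h8 := h8g q
    have h8' := h8g (some 1)
    rw [h8, h8'] at e
    rcases H90.zmod2_cases (d.1 q) with e1 | e1 <;> rcases H90.zmod2_cases (d.1 (some 1)) with e2 | e2 <;>
      simp [e1, e2] at e ⊢
  set k := d.1 (some 1) with hk
  have hd' : d.1 + (fun _ => k) ∈ golayCode := add_mem d.2 (const_mem_code k)
  have hrec : d.1 = (d.1 + fun _ => k) + fun _ => k := by
    rw [add_assoc]; funext q; simp [zmod2_double]
  rcases word_on_oct hd' (fun q hq => by
      show d.1 q + k = 0
      rw [hconst q hq]; exact zmod2_double _) with h | h <;>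
    rcases H90.zmod2_cases k with hk0 | hk0 <;> rw [h, hk0] at hrec
  · left; rw [hx, show d = 0 from Subtype.ext (by rw [hrec]; funext q; simp), signEl_zero]
  · right; left
    rw [hx, show d = ⟨1, one_mem_code⟩ from Subtype.ext (by rw [hrec]; funext q; simp), signEl_one]
  · right; right; right
    rw [hx, show d = ⟨H90.wordOf octN, octWord_mem⟩ from Subtype.ext (by rw [hrec]; funext q; simp),
      signEl_oct]
  · right; right; left
    rw [hx, show d = ⟨H90.wordOf octN, octWord_mem⟩ + ⟨1, one_mem_code⟩ from
      Subtype.ext (by rw [hrec]; rfl), signEl_add, signEl_oct, signEl_one, ← negOne_comm,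
      ← mul_assoc, negOne_sq, one_mul]

theorem not_neg_conj {g : Co0} (hg : g * tEl = negOne * tEl * g) : False := by
  have hf : ∀ p, onOct p = false → g • eight p ∈ fixPart := fun p hp => by
    rw [mem_fixPart_iff]
    have h1 : (negOne * tEl * g) • eight p = (g * tEl) • eight p := by rw [hg]
    rw [mul_smul, mul_smul, mul_smul, negOne_smul, eight_outside hp, co0_neg] at h1
    exact neg_injective h1
  set O : Finset GolayPt := univ.filter fun o => onOct o = true
  set T : Finset GolayPt := univ.filter fun o => onOct o = false
  have e1 : ∀ p ∈ T, ∑ o ∈ O, ((g • eight p : leechLattice) : GolayPt → ℤ) o ^ 2 = 64 := by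
    intro p hp
    have hp' : onOct p = false := (mem_filter.mp hp).2
    have h : ldot (g • eight p) (g • eight p) = 64 := by rw [co0_dot, eight_norm]
    rw [← h]
    show _ = dotInt _ _
    rw [dotInt]
    refine (sum_subset (subset_univ _) fun o _ ho => ?_).trans (sum_congr rfl fun o _ => sq _)
    have : onOct o = false := by simpa [O] using ho
    rw [hf p hp' o this]; rfl
  have e2 : ∀ o, ∑ p ∈ T, ((g • eight p : leechLattice) : GolayPt → ℤ) o ^ 2 ≤ 64 := by
    intro o
    have h1 : ∀ p, ((g • eight p : leechLattice) : GolayPt → ℤ) o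
        = ((g⁻¹ • eight o : leechLattice) : GolayPt → ℤ) p := fun p => by
      have h := co0_dot g⁻¹ (g • eight p) (eight o)
      rw [inv_smul_smul, ldot_eight, ldot_comm, ldot_eight] at h
      omega
    simp only [h1]
    have h : ldot (g⁻¹ • eight o) (g⁻¹ • eight o) = 64 := by rw [co0_dot, eight_norm]
    rw [← h]
    show _ ≤ dotInt _ _
    rw [dotInt]
    refine le_trans (le_of_eq (sum_congr rfl fun p _ => sq _)) ?_
    exact sum_le_sum_of_subset_of_nonneg (subset_univ _) fun p _ _ => mul_self_nonneg _
  have hcard : O.card = 8 ∧ T.card = 16 := by decide +kernel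
  have h16 := sum_congr rfl e1
  rw [sum_const, hcard.2, sum_comm] at h16
  have h8 := sum_le_sum (s := O) fun o _ => e2 o
  rw [h16, sum_const, hcard.1] at h8
  norm_num at h8

/-- the involution -/
noncomputable def zC : Spor.Co1 := qC tEl

theorem tEl_sq : tEl * tEl = (1 : Co0) := signEl_sq _

theorem tEl_move : tEl • eight (some 1) = -eight (some 1) := eight_outside (by decide +kernel)

theorem orderOf_zC : orderOf zC = 2 := by
  refine orderOf_eq_prime_iff.mpr ⟨by rw [pow_two, zC, ← map_mul, tEl_sq, map_one], fun h => ?_⟩
  rcases qC_eq_one.mp h with e | e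
  · have e' := tEl_move
    rw [e, one_smul] at e'
    have h1 := congrArg (fun w : leechLattice => (w : GolayPt → ℤ) (some 1)) e'
    simp [eight] at h1
  · have e' : negOne • Spor.leechU = Spor.leechU := by
      rw [← e]; exact mem_fixPart_iff.mp leechU_mem
    rw [negOne_smul] at e'
    have h1 := congrArg (fun w : leechLattice => (w : GolayPt → ℤ) none) e'
    simp [Spor.leechU, Spor.vecU] at h1

/-- the map onto the centraliser -/
noncomputable def thetaC : tCent →* Subgroup.centralizer ({zC} : Set Spor.Co1) :=
  (qC.comp tCent.subtype).codRestrict _ fun h => Subgroup.mem_centralizer_singleton_iff.mpr (by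
    show qC h.1 * qC tEl = qC tEl * qC h.1
    rw [← map_mul, ← map_mul, mem_tCent.mp h.2])

theorem thetaC_surjective : Function.Surjective thetaC := by
  intro y
  obtain ⟨x, hx⟩ := qC_surjective y.1
  have hy : qC (x * tEl) = qC (tEl * x) := by
    rw [map_mul, map_mul, hx]
    exact Subgroup.mem_centralizer_singleton_iff.mp y.2
  rcases qC_eq_iff.mp hy with e | e
  · exact ⟨⟨x, mem_tCent.mpr e⟩, Subtype.ext hx⟩
  · exact absurd (e.trans (mul_assoc _ _ _).symm) fun e' => not_neg_conj e'

theorem thetaC_ker_le : thetaC.ker ≤ rep8.ker := by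
  intro h hh
  have h1 : qC h.1 = 1 := congrArg Subtype.val hh
  rcases qC_eq_one.mp h1 with e | e
  · rw [show h = 1 from Subtype.ext e]; exact rep8.ker.one_mem
  · rw [show h = ⟨negOne, negOne_mem8⟩ from Subtype.ext e]; exact rep8_negOne

/-- the action of the centraliser -/
noncomputable def rhoC : Subgroup.centralizer ({zC} : Set Spor.Co1) →* orthGroup q8 :=
  thetaC.liftOfRightInverse (Function.surjInv thetaC_surjective)
    (Function.rightInverse_surjInv thetaC_surjective) ⟨rep8, thetaC_ker_le⟩

theorem rhoC_theta (h : tCent) : rhoC (thetaC h) = rep8 h := by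
  unfold rhoC
  exact MonoidHom.liftOfRightInverse_comp_apply _ _ _ ⟨rep8, thetaC_ker_le⟩ h

theorem rhoC_range : rhoC.range = commutator (orthGroup q8) := by
  rw [← range_eq]
  ext g
  constructor
  · rintro ⟨y, rfl⟩
    obtain ⟨x, rfl⟩ := thetaC_surjective y
    exact ⟨x, (rhoC_theta x).symm⟩
  · rintro ⟨x, rfl⟩
    exact ⟨thetaC x, rhoC_theta x⟩

/-- the kernel in `Co2` inside the centraliser -/
noncomputable def kerIncl : repHom.ker →* Subgroup.centralizer ({zC} : Set Spor.Co1) :=
  thetaC.comp ((Subgroup.inclusion centGrp_le).comp repHom.ker.subtype)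

theorem kerIncl_mem (k : repHom.ker) : kerIncl k ∈ rhoC.ker := by
  obtain ⟨n, hn, p, hp, e⟩ := ker_form k
  show rhoC (thetaC (Subgroup.inclusion centGrp_le k.1)) = 1
  rw [rhoC_theta]
  exact rep8_of_signed hn hp (Or.inl (congrArg (fun x : repHom.ker => x.1.1) e))

theorem kerIncl_injective : Function.Injective kerIncl := by
  rw [injective_iff_map_eq_one]
  intro k hk
  have h1 : qC k.1.1 = 1 := congrArg Subtype.val hk
  rcases qC_eq_one.mp h1 with e | e
  · exact ker_ext e
  · exfalso
    have h2 := (mem_centGrp.mp k.1.2).2
    rw [e, negOne_smul] at h2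
    have h1 := congrArg (fun w : leechLattice => (w : GolayPt → ℤ) none) h2
    simp [Spor.leechU, Spor.vecU] at h1

theorem kerIncl_surjective {y : Subgroup.centralizer ({zC} : Set Spor.Co1)} (hy : y ∈ rhoC.ker) :
    ∃ k, kerIncl k = y := by
  obtain ⟨x, rfl⟩ := thetaC_surjective y
  have hx : rep8 x = 1 := (rhoC_theta x).symm.trans hy
  obtain ⟨n, hn, p, hp, e⟩ := rep8_kernel hx
  refine ⟨signK hn * permK hp, Subtype.ext ?_⟩
  show qC (signW n * permHom (permN p)) = qC x.1
  rcases e with e | e <;> rw [e]
  rw [map_mul qC negOne, qC_negOne, one_mul]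

/-- the normal two-subgroup -/
noncomputable def kerIso : repHom.ker ≃* rhoC.ker :=
  MulEquiv.ofBijective (kerIncl.codRestrict rhoC.ker kerIncl_mem)
    ⟨fun _ _ h => kerIncl_injective (congrArg Subtype.val h), fun y => by
      obtain ⟨k, hk⟩ := kerIncl_surjective y.2
      exact ⟨k, Subtype.ext hk⟩⟩

theorem ker_self_centralizing :
    Subgroup.centralizer (rhoC.ker : Set (Subgroup.centralizer ({zC} : Set Spor.Co1))) ≤ rhoC.ker := by
  intro y hy
  obtain ⟨x, rfl⟩ := thetaC_surjective y
  have hcomm : ∀ n ∈ discL, ∀ p ∈ fixOctL,
      x.1 * (signW n * permHom (permN p)) = signW n * permHom (permN p) * x.1 := by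
    intro n hn p hp
    have h1 := congrArg Subtype.val (Subgroup.mem_centralizer_iff.mp hy _ (kerIncl_mem (signK hn * permK hp)))
    change qC (signW n * permHom (permN p)) * qC x.1 = qC x.1 * qC (signW n * permHom (permN p)) at h1
    rw [← map_mul, ← map_mul] at h1
    rcases qC_eq_iff.mp h1.symm with e | e
    · exact e
    · exfalso
      have hU : x.1 • Spor.leechU ∈ fixPart := smul_mem8 x leechU_mem
      have h2 := congrArg (fun g : Co0 => g • Spor.leechU) e
      rw [mul_smul x.1, mul_smul negOne, mul_smul (signW n * permHom (permN p)),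
        fix_pointwise hn hp leechU_mem, fix_pointwise hn hp hU, negOne_smul] at h2
      have h3 := congrArg (fun w : leechLattice => ldot w (x.1 • Spor.leechU)) h2
      simp only [leechLike.neg_left, co0_dot, leechU_norm] at h3
      norm_num at h3
  have hp0 : ∃ p ∈ fixOctL, permN p = 1 := by
    obtain ⟨p, hp, h⟩ := List.any_eq_true.mp centre_ok.2.2.2.2.2
    exact ⟨p, hp, eq_one_of_samePerm (perm_spec hp).1 h⟩
  obtain ⟨p0, hp0, e0⟩ := hp0
  have h0 : (0 : ℕ) ∈ discL := List.contains_iff_mem.mp centre_ok.2.2.2.1
  show rhoC (thetaC x) = 1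
  rw [rhoC_theta]
  have hone : ∀ q : ℕ, signW q * permHom (permN p0) = signW q := fun q => by rw [e0, map_one, mul_one]
  rcases cent_kernel (mem_tCent.mp x.2)
    (fun n hn => by have := hcomm n hn p0 hp0; rwa [hone] at this)
    (fun p hp => by have := hcomm 0 h0 p hp; rwa [signW_zero, one_mul] at this) with e | e | e | e
  · exact rep8_of_signed h0 hp0 (Or.inl (by rw [hone, signW_zero]; exact e))
  · exact rep8_of_signed h0 hp0 (Or.inr (by rw [hone, signW_zero, mul_one]; exact e))
  · exact rep8_of_signed tIdx_mem hp0 (Or.inl (by rw [hone]; exact e))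
  · exact rep8_of_signed tIdx_mem hp0 (Or.inr (by rw [hone]; exact e))

theorem neg_one_matrix : (-1 : Matrix I8 I8 (ZMod 2)) = 1 := by decide +kernel

theorem range_pCore : pCore 2 ↥(commutator (orthGroup q8)) = ⊥ := by
  have h5 : 5 ≤ Module.finrank (ZMod 2) V8 := by rw [finrank_qPlus]; norm_num
  have hbot : Subgroup.center (Cfsg.Omega (ZMod 2) ⇑q8) = ⊥ := by
    refine (Subgroup.eq_bot_iff_forall _).mpr fun g hg => ?_
    have h := (omega_center_iff q8_nondeg (by simp) g).mp hg
    rw [neg_one_matrix, or_self] at h
    exact Subtype.ext (Subtype.ext (Units.ext h))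
  have hbot' : Subgroup.center (commutator (orthGroup q8)) = ⊥ := by
    rw [← omega_center_map, hbot, Subgroup.map_bot]
  haveI := isSimpleGroup_commutator_quot q8_nondeg h5
  haveI := H90.isSimpleGroup_of_mulEquiv ((QuotientGroup.quotientMulEquivOfEq hbot').trans
    (QuotientGroup.quotientBot (G := commutator (orthGroup q8))))
  rcases (H1.pCore_normal' 2 (commutator (orthGroup q8))).eq_bot_or_eq_top with h | h
  · exact h
  · exfalso
    have hP := H1.isPGroup_pCore 2 (commutator (orthGroup q8))
    rw [h] at hP
    haveI : Finite (orthGroup q8) := Finite.of_equiv _ (toOrth q8).toEquiv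
    haveI : Fact (Nat.Prime 2) := ⟨Nat.prime_two⟩
    have hnt := (hP.of_equiv Subgroup.topEquiv).center_nontrivial
    rw [hbot'] at hnt
    exact false_of_nontrivial_of_subsingleton (⊥ : Subgroup (commutator (orthGroup q8)))

theorem pCore_cent : pCore 2 (Subgroup.centralizer ({zC} : Set Spor.Co1)) = rhoC.ker := by
  refine le_antisymm (fun y hy => ?_) (H1.le_pCore (IsPGroup.of_card
    ((Nat.card_congr kerIso.toEquiv).symm.trans kerCard)))
  have h1 := H1.map_pCore_le_of_surjective 2 rhoC.rangeRestrict rhoC.rangeRestrict_surjective
    ⟨y, hy, rfl⟩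
  have h2 : pCore 2 rhoC.range = ⊥ := by
    rw [← H1.map_pCore_equiv 2 (MulEquiv.subgroupCongr rhoC_range).symm, range_pCore, Subgroup.map_bot]
  rw [h2, Subgroup.mem_bot] at h1
  exact congrArg Subtype.val h1

end H95.Co1Inv
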