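import Cfsg.Agent.H95.Co1Inv.Rep8
import Cfsg.Agent.H95.Co2Cent.Core

/-!
The image is the commutator subgroup of the orthogonal group; the kernel is `± 2^{1+8}`.
-/

set_option autoImplicit false

namespace H95.Co1Inv

open Cfsg Finset H95.Co2Cent H43

/-- an action on lists commutes with the sign change -/
def commL (f : List ℤ → List ℤ) : Bool :=
  (List.finRange 24).all fun i =>
    f (signLW (compN16 % 4096) (eightL i)) == signLW (compN16 % 4096) (f (eightL i))

theorem mem_of_commL {g : Co0} (f : List ℤ → List ℤ)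
    (hf : ∀ u : leechLattice, vecL ((g • u : leechLattice) : GolayPt → ℤ)
      = f (vecL (u : GolayPt → ℤ))) (h : commL f = true) : g ∈ tCent := by
  simp only [commL, List.all_eq_true, beq_iff_eq] at h
  refine mem_tCent.mpr (eq_of_eights fun i => ?_)
  rw [mul_smul, mul_smul, hf, tEl_list, tEl_list, hf, vecL_eight]
  exact h i (List.mem_finRange _)

theorem centGrp_le : centGrp ≤ tCent := fun _ h => mem_tCent.mpr (mem_centGrp.mp h).1

theorem gMat_mem8 : gMat.elt ∈ tCent := centGrp_le gMat_mem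

theorem three_ok : permOK threeN = true ∧ srcOK threeN = true ∧ commL (permLW threeN) = true := by
  decide +kernel

theorem three_mem : permHom (permN threeN) ∈ tCent :=
  mem_of_commL _ (vecL_permN three_ok.1 three_ok.2.1) three_ok.2.2

/-- the reflection matrix -/
def R8 (a : V8) : Matrix I8 I8 (ZMod 2) := reflectionMatrix (quadFormPlus 4 (ZMod 2)) a

/-- the entry of the certificate -/
def ent (i : ℕ) : ℕ × ℕ × ℕ × ℕ × ℕ := cert8.getD i (9, 0, 0, 0, 0)

/-- one step of the certificate -/
def step8 (i : ℕ) : Bool :=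
  let r := ent i
  let a := r.2.2.2.1
  let b := r.2.2.2.2
  if r.1 = 0 then
    decide (r.2.1 < 7) && decide (matOf8 (seedLW r.2.1) = R8 (vec8 a) * R8 (vec8 b))
  else if r.1 = 1 then
    decide (r.2.1 < i) && decide (r.2.2.1 < i) && (ent r.2.1).2.2.2.1 == a &&
      (ent r.2.1).2.2.2.2 == (ent r.2.2.1).2.2.2.1 && (ent r.2.2.1).2.2.2.2 == b &&
      decide (quadFormPlus 4 (ZMod 2) (vec8 (ent r.2.1).2.2.2.2) ≠ 0)
  else if r.1 = 2 then
    decide (r.2.1 < i) &&
      decide (vec8 a = Matrix.mulVec (matOf8 (applyL gRows)) (vec8 (ent r.2.1).2.2.2.1)) &&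
      decide (vec8 b = Matrix.mulVec (matOf8 (applyL gRows)) (vec8 (ent r.2.1).2.2.2.2))
  else if r.1 = 3 then
    decide (r.2.1 < i) &&
      decide (vec8 a = Matrix.mulVec (matOf8 (permLW threeN)) (vec8 (ent r.2.1).2.2.2.1)) &&
      decide (vec8 b = Matrix.mulVec (matOf8 (permLW threeN)) (vec8 (ent r.2.1).2.2.2.2))
  else
    decide (r.1 = 4) && decide (r.2.1 < i) && (ent r.2.1).2.2.2.1 == b && (ent r.2.1).2.2.2.2 == a

theorem steps0 : (List.range 125).all (fun i => step8 i) = true := by decide +kernel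
theorem steps1 : (List.range 125).all (fun i => step8 (i + 125)) = true := by decide +kernel
theorem steps2 : (List.range 125).all (fun i => step8 (i + 250)) = true := by decide +kernel
theorem steps3 : (List.range 125).all (fun i => step8 (i + 375)) = true := by decide +kernel

theorem step_all {i : ℕ} (hi : i < 500) : step8 i = true := by
  by_cases h1 : i < 125
  · exact List.all_eq_true.mp steps0 i (List.mem_range.mpr h1)
  by_cases h2 : i < 250
  · have h := List.all_eq_true.mp steps1 (i - 125) (List.mem_range.mpr (by omega))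
    rwa [Nat.sub_add_cancel (by omega)] at h
  by_cases h3 : i < 375
  · have h := List.all_eq_true.mp steps2 (i - 250) (List.mem_range.mpr (by omega))
    rwa [Nat.sub_add_cancel (by omega)] at h
  · have h := List.all_eq_true.mp steps3 (i - 375) (List.mem_range.mpr (by omega))
    rwa [Nat.sub_add_cancel (by omega)] at h

theorem cover8 : ∀ u : V8, quadFormPlus 4 (ZMod 2) u ≠ 0 → u = vec8 vMask ∨
    ∃ i : Fin 500, (ent i.val).2.2.2.1 = vMask ∧ vec8 (ent i.val).2.2.2.2 = u := by
  decide +kernel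

theorem R8_apply (a x : V8) : Matrix.mulVec (R8 a) x = (refl q8 a).1 x := by
  rw [← reflectionMatrix_mulVec_eq, R8, coe_qPlus]

theorem rep8_pair (h : tCent) {a b : V8} (e : repMat8 h = R8 a * R8 b) :
    rep8 h = refl q8 a * refl q8 b := orth_ext fun x => by
  rw [rep8_apply, e, ← Matrix.mulVec_mulVec, R8_apply, R8_apply, orth_mul_apply]

theorem pair_mem (i : ℕ) (hi : i < 500) :
    refl q8 (vec8 (ent i).2.2.2.1) * refl q8 (vec8 (ent i).2.2.2.2) ∈ rep8.range := by
  induction i using Nat.strong_induction_on with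
  | _ i ih =>
    have h := step_all hi
    simp only [step8] at h
    split at h
    · simp only [Bool.and_eq_true, decide_eq_true_eq] at h
      exact ⟨⟨_, centGrp_le (seedEl_mem h.1)⟩,
        rep8_pair _ ((repMat8_eq _ _ (seedEl_list h.1)).trans h.2)⟩
    split at h
    · simp only [Bool.and_eq_true, decide_eq_true_eq, beq_iff_eq] at h
      obtain ⟨⟨⟨⟨⟨ha, hb⟩, e1⟩, e2⟩, e3⟩, -⟩ := h
      have := rep8.range.mul_mem (ih _ ha (by omega)) (ih _ hb (by omega))
      rw [e1, e2, e3, mul_assoc, ← mul_assoc (refl q8 (vec8 (ent (ent i).2.2.1).2.2.2.1)), refl_sq,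
        one_mul] at this
      exact this
    have hconj : ∀ (g : Co0) (hg : g ∈ tCent) (f : List ℤ → List ℤ)
        (_hf : ∀ u : leechLattice, vecL ((g • u : leechLattice) : GolayPt → ℤ)
          = f (vecL (u : GolayPt → ℤ))) (a b a' b' : V8),
        a' = Matrix.mulVec (matOf8 f) a → b' = Matrix.mulVec (matOf8 f) b →
        refl q8 a * refl q8 b ∈ rep8.range → refl q8 a' * refl q8 b' ∈ rep8.range := by
      intro g hg f hf a b a' b' ea eb hab
      have hr : rep8 ⟨g, hg⟩ ∈ rep8.range := ⟨_, rfl⟩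
      have := rep8.range.mul_mem (rep8.range.mul_mem hr hab) (rep8.range.inv_mem hr)
      rw [show rep8 ⟨g, hg⟩ * (refl q8 a * refl q8 b) * (rep8 ⟨g, hg⟩)⁻¹
          = (rep8 ⟨g, hg⟩ * refl q8 a * (rep8 ⟨g, hg⟩)⁻¹) * (rep8 ⟨g, hg⟩ * refl q8 b * (rep8 ⟨g, hg⟩)⁻¹)
          by group, refl_conj, refl_conj, rep8_apply, rep8_apply, repMat8_eq ⟨g, hg⟩ f hf] at this
      rw [ea, eb]
      exact this
    split at h
    · simp only [Bool.and_eq_true, decide_eq_true_eq] at h
      exact hconj _ gMat_mem8 _ gMat.vecL_elt _ _ _ _ h.1.2 h.2 (ih _ h.1.1 (by omega))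
    split at h
    · simp only [Bool.and_eq_true, decide_eq_true_eq] at h
      exact hconj _ three_mem _ (vecL_permN three_ok.1 three_ok.2.1) _ _ _ _ h.1.2 h.2
        (ih _ h.1.1 (by omega))
    · simp only [Bool.and_eq_true, decide_eq_true_eq, beq_iff_eq] at h
      have := rep8.range.inv_mem (ih _ h.1.1.2 (by omega))
      rw [mul_inv_rev, refl_inv, refl_inv, h.1.2, h.2] at this
      exact this

/-- the nonsingular vector of `(4, 4, 0²²)` -/
def vVec : V8 := vec8 vMask

theorem vVec_ne : q8 vVec ≠ 0 := by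
  rw [q8_apply]
  show quadFormPlus 4 (ZMod 2) (vec8 vMask) ≠ 0
  decide +kernel

theorem q8_nondeg : (polB q8).Nondegenerate := qPlus_nondeg 4

theorem q8_gen : ReflGenerates (ZMod 2) V8 := Or.inr (by rw [finrank_qPlus]; norm_num)

theorem two_zero : (2 : ZMod 2) = 0 := rfl

theorem two_le_dim : 2 ≤ Module.finrank (ZMod 2) V8 := by rw [finrank_qPlus]; norm_num

theorem commutator_le_range : commutator (orthGroup q8) ≤ rep8.range := by
  rw [H45.commutator_eq_closure_reflPair q8_nondeg q8_gen two_le_dim two_zero, Subgroup.closure_le]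
  rintro _ ⟨a, b, ha, hb, rfl⟩
  have key : ∀ u, q8 u ≠ 0 → refl q8 vVec * refl q8 u ∈ rep8.range := by
    intro u hu
    rw [q8_apply] at hu
    rcases cover8 u hu with rfl | ⟨i, e1, rfl⟩
    · rw [show vec8 vMask = vVec from rfl, refl_sq]; exact rep8.range.one_mem
    · have := pair_mem i.val i.isLt
      rw [e1] at this
      exact this
  have := rep8.range.mul_mem (rep8.range.inv_mem (key a ha)) (key b hb)
  rw [mul_inv_rev, refl_inv, refl_inv, mul_assoc, ← mul_assoc (refl q8 vVec), refl_sq, one_mul] at this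
  exact this

theorem norm32_dvd (u : fixPart) : (32 : ℤ) ∣ ldot u.1 u.1 := by
  obtain ⟨w, e⟩ := decompose8 u
  set s := lift8 (psi8 u) with hs
  have hsc : (s.1 : GolayPt → ℤ) = expF (psi8 u) 0 := funext fun p => by
    rw [hs, lift8_coord]; simp [expF]
  have h2 := (lift_norm (psi8 u)).2
  rw [← hsc] at h2
  change (32 : ℤ) ∣ ldot s.1 s.1 at h2
  obtain ⟨a, ha⟩ := dvd16 s.2 w.2
  obtain ⟨b, hb⟩ := dvd16 w.2 w.2
  have e' : u.1 = s.1 + (w.1 + w.1) := by rw [e, two_nsmul]; rfl
  rw [e', leechLike.norm_add, leechLike.norm_add, ldot_comm s.1 (w.1 + w.1), leechLike.add_left,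
    ldot_comm w.1 s.1, ha, hb]
  omega

theorem polB_psi8 (a b : fixPart) : polB q8 (psi8 a) (psi8 b) = pairTo b a := by
  rw [polB_apply, QuadraticMap.polar, q8_apply, q8_apply, q8_apply, ← map_add, quad_psi8, quad_psi8,
    quad_psi8, ← Int.cast_sub, ← Int.cast_sub]
  show _ = ((ldot a.1 b.1 / 16 : ℤ) : ZMod 2)
  refine congrArg Int.cast ?_
  obtain ⟨x, hx⟩ := norm32_dvd a
  obtain ⟨y, hy⟩ := norm32_dvd b
  obtain ⟨z, hz⟩ := dvd16 a.2 b.2
  show ldot (a.1 + b.1) (a.1 + b.1) / 32 - _ - _ = _
  rw [leechLike.norm_add, hx, hy, hz]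
  omega

theorem roots_eq {r s : fixPart} (hr : ldot r.1 r.1 = 32) (hs : ldot s.1 s.1 = 32)
    (h : psi8 r = psi8 s) : r.1 = s.1 ∨ r.1 = -s.1 := by
  obtain ⟨w, hw⟩ := psi8_eq_zero (u := r - s) (by rw [map_sub, h, sub_self])
  have ht : r.1 - s.1 ∈ twice leechLattice := mem_twice.mpr ⟨w.1, by
    have := congrArg Subtype.val hw
    simpa using this⟩
  rcases leechLike.norm_twice ht with h0 | h128
  · exact Or.inl (sub_eq_zero.mp h0)
  · right
    have hsum : ldot (r.1 + s.1) (r.1 + s.1) + ldot (r.1 - s.1) (r.1 - s.1) = 128 := by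
      rw [leechLike.norm_add, leechLike.norm_sub, hr, hs]; ring
    have h0 : r.1 + s.1 = 0 := by
      by_contra hne
      have := leechLike.min32 _ hne
      linarith
    exact eq_neg_of_add_eq_zero_left h0

theorem psi8_ufix : psi8 ufix = vVec := by
  show psi8 ufix = vec8 vMask
  decide +kernel

theorem negOne_mem8 : negOne ∈ tCent := mem_tCent.mpr (negOne_comm _)

theorem psi8_negOne (u : fixPart) : psi8 (act8 ⟨negOne, negOne_mem8⟩ u) = psi8 u := by
  rw [show act8 ⟨negOne, negOne_mem8⟩ u = -u from Subtype.ext (negOne_smul u.1), map_neg]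
  funext m
  exact (show ∀ a : ZMod 2, -a = a by decide) _

theorem rep8_negOne : rep8 ⟨negOne, negOne_mem8⟩ = 1 := orth_ext fun x => by
  rw [rep8_apply, ← psi8_lift x, ← psi8_act, psi8_negOne, orth_one_apply]

/-- elements with trivial action on the orthogonal space -/
theorem normal_form {h : tCent} (hperp : ∀ u : fixPart, ldot u.1 Spor.leechU = 0 →
      psi8 (act8 h u) = psi8 u) (hv : psi8 (act8 h ufix) = vVec) :
    ∃ n ∈ discL, ∃ p ∈ fixOctL,
      h.1 = signW n * permHom (permN p) ∨ h.1 = negOne * (signW n * permHom (permN p)) := by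
  have key : ∀ g : tCent, (∀ u : fixPart, ldot u.1 Spor.leechU = 0 → psi8 (act8 g u) = psi8 u) →
      g.1 • Spor.leechU = Spor.leechU →
      ∃ n ∈ discL, ∃ p ∈ fixOctL, g.1 = signW n * permHom (permN p) := by
    intro g hg hU
    set g' : centGrp := ⟨g.1, mem_centGrp.mpr ⟨mem_tCent.mp g.2, hU⟩⟩
    have hk : repHom g' = 1 := Subtype.ext (Matrix.ext fun i j => by
      show psi (act g' (bfix j)) i = (1 : Matrix I6 I6 (ZMod 2)) i j
      have h8 := hg (bfix j) (bfix_perp j)
      obtain ⟨w, hw⟩ := psi8_eq_zero (u := act8 g (bfix j) - bfix j) (by rw [map_sub, h8, sub_self])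
      have e : act g' (bfix j) = bfix j + 2 • w := by rw [← hw]; exact (add_sub_cancel _ _).symm
      rw [e, map_add, psi_twice, add_zero, psi_bfix, Matrix.one_apply, Pi.single_apply])
    exact kernel_form hk
  have hn : ldot ufix.1 ufix.1 = 32 := leechU_norm
  rcases roots_eq (r := act8 h ufix) (s := ufix)
    (by show ldot (h.1 • Spor.leechU) (h.1 • Spor.leechU) = 32; rw [co0_dot]; exact hn) hn
    (hv.trans psi8_ufix.symm) with e | e
  · obtain ⟨n, hn, p, hp, e'⟩ := key h hperp e
    exact ⟨n, hn, p, hp, Or.inl e'⟩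
  · obtain ⟨n, hn, p, hp, e'⟩ := key (⟨negOne, negOne_mem8⟩ * h)
      (fun u hu => by
        rw [show act8 (⟨negOne, negOne_mem8⟩ * h) u = act8 ⟨negOne, negOne_mem8⟩ (act8 h u) from
          Subtype.ext (mul_smul negOne h.1 u.1), psi8_negOne]
        exact hperp u hu)
      (by
        show (negOne * h.1) • Spor.leechU = _
        change h.1 • Spor.leechU = -Spor.leechU at e
        rw [mul_smul, negOne_smul, e, neg_neg])
    refine ⟨n, hn, p, hp, Or.inr ?_⟩
    rw [← e']
    show h.1 = negOne * (negOne * h.1)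
    rw [← mul_assoc, negOne_sq, one_mul]

theorem sign8_ok : discL.all (fun n => decide (matOf8 (signLW n) = 1)) = true := by decide +kernel
theorem perm8_ok : fixOctL.all (fun p => decide (matOf8 (permLW p) = 1)) = true := by decide +kernel

theorem rep8_of_form {n p : ℕ} (hn : n ∈ discL) (hp : p ∈ fixOctL)
    (hm : signW n * permHom (permN p) ∈ tCent) : rep8 ⟨_, hm⟩ = 1 := by
  have hs : repMat8 ⟨signW n, centGrp_le (signW_mem hn)⟩ = 1 :=
    (repMat8_eq _ _ (vecL_signW n)).trans (of_decide_eq_true (List.all_eq_true.mp sign8_ok n hn))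
  have hp' : repMat8 ⟨permHom (permN p), centGrp_le (permW_mem hp)⟩ = 1 :=
    (repMat8_eq _ _ (vecL_permN (perm_spec hp).1 (perm_spec hp).2.1)).trans
      (of_decide_eq_true (List.all_eq_true.mp perm8_ok p hp))
  refine orth_ext fun x => ?_
  rw [rep8_apply, show (⟨_, hm⟩ : tCent) = ⟨signW n, centGrp_le (signW_mem hn)⟩ *
    ⟨permHom (permN p), centGrp_le (permW_mem hp)⟩ from rfl, repMat8_mul, hs, hp', mul_one,
    Matrix.one_mulVec, orth_one_apply]

theorem rep8_of_signed {h : tCent} {n p : ℕ} (hn : n ∈ discL) (hp : p ∈ fixOctL)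
    (e : h.1 = signW n * permHom (permN p) ∨ h.1 = negOne * (signW n * permHom (permN p))) :
    rep8 h = 1 := by
  have hm : signW n * permHom (permN p) ∈ tCent :=
    tCent.mul_mem (centGrp_le (signW_mem hn)) (centGrp_le (permW_mem hp))
  rcases e with e | e
  · rw [show h = ⟨_, hm⟩ from Subtype.ext e]; exact rep8_of_form hn hp hm
  · rw [show h = ⟨negOne, negOne_mem8⟩ * ⟨_, hm⟩ from Subtype.ext e, map_mul, rep8_negOne,
      rep8_of_form hn hp hm, one_mul]

theorem refl_v_notin : refl q8 vVec ∉ rep8.range := by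
  rintro ⟨h, hh⟩
  have hact : ∀ u : fixPart,
      psi8 (act8 h u) = psi8 u - ((q8 vVec)⁻¹ * polB q8 (psi8 u) vVec) • vVec := fun u => by
    rw [psi8_act, ← rep8_apply, hh, refl_apply]
  have hq : q8 vVec = 1 := (show ∀ a : ZMod 2, a ≠ 0 → a = 1 by decide) _ vVec_ne
  obtain ⟨n, hn, p, hp, e⟩ := normal_form (h := h) (fun u hu => by
      rw [hact u, show polB q8 (psi8 u) vVec = 0 from by
        rw [← psi8_ufix, polB_psi8]
        show ((ldot u.1 Spor.leechU / 16 : ℤ) : ZMod 2) = 0
        rw [hu]; rfl, mul_zero, zero_smul, sub_zero])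
    (by
      have := hact ufix
      rw [psi8_ufix, polB_self, two_zero, zero_mul, mul_zero, zero_smul, sub_zero] at this
      exact this)
  have h1 := rep8_of_signed hn hp e
  rw [h1] at hh
  have hx : ∀ w : V8, w ≠ 0 → ∃ x : V8, ∑ i : Fin 4,
      (x (.inl i) * w (.inr i) + x (.inr i) * w (.inl i)) ≠ 0 := by decide +kernel
  obtain ⟨x, hx⟩ := hx vVec (fun h0 => vVec_ne (by rw [h0, map_zero]))
  have := congrArg (fun g : orthGroup q8 => g.1 x) hh
  simp only [orth_one_apply, refl_apply, polB_qPlus, hq, inv_one, one_mul] at this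
  rw [eq_comm, sub_eq_self, smul_eq_zero] at this
  rcases this with e | e
  · exact hx e
  · exact vVec_ne (by rw [e, map_zero])

theorem range_eq : rep8.range = commutator (orthGroup q8) := by
  refine le_antisymm (fun g hg => ?_) commutator_le_range
  rw [H45.mem_commutator_iff_dickson q8_nondeg q8_gen two_le_dim two_zero]
  by_contra hd
  have hd1 : dickson g = Multiplicative.ofAdd 1 :=
    (show ∀ a : Multiplicative (ZMod 2), a ≠ 1 → a = Multiplicative.ofAdd 1 by decide) _ hd
  have hmem : refl q8 vVec * g ∈ rep8.range := commutator_le_range (by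
    rw [H45.mem_commutator_iff_dickson q8_nondeg q8_gen two_le_dim two_zero,
      dickson_refl_mul q8_nondeg g vVec_ne, hd1]
    rfl)
  have := rep8.range.mul_mem hmem (rep8.range.inv_mem hg)
  rw [mul_inv_cancel_right] at this
  exact refl_v_notin this

theorem rep8_kernel {h : tCent} (hh : rep8 h = 1) : ∃ n ∈ discL, ∃ p ∈ fixOctL,
    h.1 = signW n * permHom (permN p) ∨ h.1 = negOne * (signW n * permHom (permN p)) := by
  have hact : ∀ u : fixPart, psi8 (act8 h u) = psi8 u := fun u => by
    rw [psi8_act, ← rep8_apply, hh, orth_one_apply]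
  exact normal_form (fun u _ => hact u) ((hact ufix).trans psi8_ufix)

end H95.Co1Inv
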