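import Cfsg.Agent.H95.Co1Inv.Centralizer
import Cfsg.Agent.H68.ExtraComm
import Cfsg.Prelude.Def_SporadicB

/-!
The first Conway group satisfies the large extraspecial hypothesis.
-/

set_option autoImplicit false

namespace H95.Co1Inv

open Cfsg Finset H95.Co2Cent H43

theorem away_ok : permOK awayN = true ∧
    H90.permMask awayN compN16 = H90.encode (awayIdx ^^^ 4095) ∧
    discL.contains awayIdx = true ∧ awayIdx ≠ tIdx ∧ awayIdx ^^^ 4095 ≠ tIdx ∧
    awayIdx ^^^ 4095 < 4096 ∧ tIdx < 4096 ∧ awayIdx < 4096 := by decide +kernel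

theorem away_conj :
    permHom (permN awayN) * tEl * (permHom (permN awayN))⁻¹ = negOne * signW awayIdx := by
  rw [← signW_all, signW_mul, Nat.xor_comm, tEl, signW, signEl_conj, signW]
  refine congrArg signEl (Subtype.ext ?_)
  show (fun i => H90.wordOf (H90.encode (compN16 % 4096)) ((permN awayN).1.symm i))
    = H90.wordOf (H90.encode (awayIdx ^^^ 4095))
  rw [comp_word, ← away_ok.2.1]
  apply H90.support₂_injective
  rw [H90.support₂_comp_symm, H90.support₂_wordOf, H90.support₂_wordOf,
    H90.setOf'_permMask (permN_repr away_ok.1)]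

theorem co1_hypothesis : ∃ z : Spor.Co1, orderOf z = 2 ∧
    ∃ (Q : Subgroup (Subgroup.centralizer ({z} : Set Spor.Co1))) (_ : Q.Normal),
      generalizedFittingSubgroup (Subgroup.centralizer ({z} : Set Spor.Co1)) = Q ∧
      IsExtraspecial 2 Q ∧ Nat.card Q = 2 ^ 9 ∧
      Nonempty ((Subgroup.centralizer ({z} : Set Spor.Co1)) ⧸ Q ≃*
        Omega (ZMod 2) (quadFormPlus 4 (ZMod 2))) ∧
      ∃ g : Spor.Co1, (∃ hq : g * z * g⁻¹ ∈ Subgroup.centralizer ({z} : Set Spor.Co1),
        (⟨g * z * g⁻¹, hq⟩ : Subgroup.centralizer ({z} : Set Spor.Co1)) ∈ Q) ∧ g * z * g⁻¹ ≠ z := by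
  haveI : Finite Co0 := co0_finite
  haveI : Finite Spor.Co1 := Finite.of_surjective _ qC_surjective
  haveI : Fact (Nat.Prime 2) := ⟨Nat.prime_two⟩
  refine ⟨zC, orderOf_zC, rhoC.ker, inferInstance, ?_, H68.isExtraspecial_of_equiv kerIso ker_extraspecial,
    (Nat.card_congr kerIso.toEquiv).symm.trans kerCard, ?_, qC (permHom (permN awayN)), ?_⟩
  · rw [← pCore_cent]
    refine H68.gfs_eq_pCore_of_centralizer ?_
    rw [pCore_cent]
    exact ker_self_centralizing
  · rw [← coe_qPlus]
    exact ⟨((QuotientGroup.quotientKerEquivRange rhoC).trans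
      (MulEquiv.subgroupCongr rhoC_range)).trans (omegaEquiv q8).symm⟩
  · obtain ⟨-, -, h3, h4, h5, h6, h7, h8⟩ := away_ok
    have hd : awayIdx ∈ discL := List.contains_iff_mem.mp h3
    have e : qC (permHom (permN awayN)) * zC * (qC (permHom (permN awayN)))⁻¹ = qC (signW awayIdx) := by
      rw [zC, ← map_inv, ← map_mul, ← map_mul, away_conj, map_mul, qC_negOne, one_mul]
    have hmem := kerIncl_mem (signK hd)
    have hval : (kerIncl (signK hd)).1 = qC (signW awayIdx) := rfl
    refine ⟨⟨by rw [e, ← hval]; exact (kerIncl (signK hd)).2, ?_⟩, ?_⟩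
    · convert hmem
      exact e.trans hval.symm
    · rw [e]
      intro h
      rcases qC_eq_iff.mp (h : qC (signW awayIdx) = qC tEl) with e' | e'
      · exact h4 (signW_injective h8 h7 e')
      · refine h5 (signW_injective h6 h7 ?_)
        rw [← signW_mul, signW_all, e', ← negOne_comm, ← mul_assoc, negOne_sq, one_mul]
        rfl

end H95.Co1Inv
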