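import Cfsg.Agent.H95.Co1Inv.Data
import Cfsg.Agent.H95.Co2Cent.Rep
import Cfsg.Agent.H43.Bridge
import Cfsg.Agent.H43.Omega
import Cfsg.Agent.H45.OmegaTools

/-!
The centraliser of the sign change on the eight-dimensional quadratic space.
-/

set_option autoImplicit false

namespace H95.Co1Inv

open Cfsg Finset H95.Co2Cent

/-- the index type -/
abbrev I8 : Type := Fin 4 ⊕ Fin 4

/-- the vector space -/
abbrev V8 : Type := I8 → ZMod 2

/-- position of an index -/
def pos8 : I8 → ℕ := Sum.elim (fun i => i.val) (fun i => i.val + 4)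

/-- exchange of the halves -/
def swap8 : I8 → I8 := Sum.elim Sum.inr Sum.inl

theorem basis8_check : ∀ m : I8, H96.Check.checkB (ofL (Co1Inv.basisL.getD (pos8 m) [])) = true := by
  decide +kernel

/-- the hyperbolic basis -/
def bvec8 (m : I8) : leechLattice :=
  ⟨ofL (Co1Inv.basisL.getD (pos8 m) []), H96.Check.checkB_spec (basis8_check m)⟩

theorem bvec8_mem (m : I8) : bvec8 m ∈ fixPart := by
  have h : ∀ m : I8, ∀ p, onOct p = false → ofL (Co1Inv.basisL.getD (pos8 m) []) p = 0 := by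
    decide +kernel
  exact h m

/-- the basis inside the part -/
def bfix8 (m : I8) : fixPart := ⟨bvec8 m, bvec8_mem m⟩

theorem gram8 (i j : I8) :
    ((ldot (bvec8 i) (bvec8 j) / 16 : ℤ) : ZMod 2) = if j = swap8 i then 1 else 0 := by
  have h : ∀ i j : I8, ((dotInt (ofL (Co1Inv.basisL.getD (pos8 i) []))
      (ofL (Co1Inv.basisL.getD (pos8 j) [])) / 16 : ℤ) : ZMod 2) = if j = swap8 i then 1 else 0 := by
    decide +kernel
  exact h i j

/-- the pairing modulo two, as a homomorphism in the first variable -/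
def pairTo (w : fixPart) : fixPart →+ ZMod 2 where
  toFun u := ((ldot u.1 w.1 / 16 : ℤ) : ZMod 2)
  map_zero' := by
    show ((ldot (0 : leechLattice) _ / 16 : ℤ) : ZMod 2) = 0
    rw [show ldot (0 : leechLattice) w.1 = 0 from by simp [ldot, dotInt]]
    simp
  map_add' a b := by
    show ((ldot (a.1 + b.1) w.1 / 16 : ℤ) : ZMod 2) = _
    rw [bform_add_left a.2 b.2 w.2, Int.cast_add]

theorem pairTo_comm (u w : fixPart) : pairTo w u = pairTo u w := by
  show ((ldot u.1 w.1 / 16 : ℤ) : ZMod 2) = ((ldot w.1 u.1 / 16 : ℤ) : ZMod 2)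
  rw [ldot_comm]

theorem zmod2_double (a : ZMod 2) : a + a = 0 := (show ∀ a : ZMod 2, a + a = 0 by decide) a

/-- the map to the quadratic space -/
def psi8 : fixPart →+ V8 where
  toFun u m := pairTo (bfix8 (swap8 m)) u
  map_zero' := funext fun _ => map_zero _
  map_add' a b := funext fun m => map_add (pairTo (bfix8 (swap8 m))) a b

theorem psi8_bfix (j : I8) : psi8 (bfix8 j) = Pi.single j 1 := funext fun m => by
  show ((ldot (bvec8 j) (bvec8 (swap8 m)) / 16 : ℤ) : ZMod 2) = _
  rw [gram8, Pi.single_apply]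
  revert j m; decide

theorem psi8_twice (w : fixPart) : psi8 (2 • w) = 0 := funext fun m => by
  rw [two_nsmul, map_add]; exact zmod2_double _

/-- the lift of a vector -/
def lift8 (a : V8) : fixPart := ∑ m, (a m).val • bfix8 m

theorem psi8_lift (a : V8) : psi8 (lift8 a) = a := funext fun k => by
  rw [lift8, map_sum, Finset.sum_apply, sum_eq_single k]
  · rw [map_nsmul, psi8_bfix, Pi.smul_apply, Pi.single_eq_same, nsmul_one, ZMod.natCast_val,
      ZMod.cast_id]
  · intro m _ hm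
    rw [map_nsmul, psi8_bfix, Pi.smul_apply, Pi.single_eq_of_ne (Ne.symm hm), smul_zero]
  · intro h; exact absurd (mem_univ k) h

/-- a vector from a mask -/
def vec8 (n : ℕ) : V8 := fun m => if n.testBit (pos8 m) then 1 else 0

/-- the eight test vectors -/
def testVec (i : Fin 8) : fixPart :=
  if h : i.val < 6 then bfix (if h3 : i.val < 3 then Sum.inl ⟨i.val, h3⟩ else Sum.inr ⟨i.val - 3, by omega⟩)
  else if i.val = 6 then ufix
  else ⟨⟨ofL (List.ofFn fun j : Fin 24 => if j.val = 23 ∨ j.val = 2 then (4 : ℤ) else 0),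
    H96.Check.checkB_spec (by decide +kernel)⟩, by
      show ∀ p, onOct p = false →
        ofL (List.ofFn fun j : Fin 24 => if j.val = 23 ∨ j.val = 2 then (4 : ℤ) else 0) p = 0
      decide +kernel⟩

theorem testExp_check : ∀ i : Fin 8, H96.Check.checkB (ofL ((testExp.getD i.val (0, [])).2)) = true := by
  decide +kernel

theorem testExp_supp : ∀ i : Fin 8, ∀ p, onOct p = false → ofL ((testExp.getD i.val (0, [])).2) p = 0 := by
  decide +kernel

/-- the expansion of a test vector, as a function -/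
def expF (a : V8) (z : GolayPt → ℤ) : GolayPt → ℤ := fun p =>
  (∑ m, ((a m).val : ℤ) * ofL (Co1Inv.basisL.getD (pos8 m) []) p) + 2 * z p

theorem testExp_eq : ∀ i : Fin 8, ∀ p, ((testVec i).1 : GolayPt → ℤ) p
    = expF (vec8 (testExp.getD i.val (0, [])).1) (ofL (testExp.getD i.val (0, [])).2) p := by
  decide +kernel

theorem lift8_coord (a : V8) (p : GolayPt) :
    ((lift8 a).1 : GolayPt → ℤ) p = ∑ m, ((a m).val : ℤ) * ofL (Co1Inv.basisL.getD (pos8 m) []) p := by
  let φ : fixPart →+ ℤ := AddMonoidHom.mk' (fun u => (u.1 : GolayPt → ℤ) p) fun _ _ => rfl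
  show φ (lift8 a) = _
  rw [lift8, map_sum]
  refine sum_congr rfl fun m _ => ?_
  rw [map_nsmul, nsmul_eq_mul]
  rfl

/-- what is killed by `psi8` is a double -/
theorem psi8_eq_zero {u : fixPart} (h : psi8 u = 0) : ∃ w : fixPart, u = 2 • w := by
  have hT : ∀ i : Fin 8, pairTo (testVec i) u = 0 := fun i => by
    obtain ⟨z, hz⟩ : ∃ z : fixPart, testVec i = lift8 (vec8 (testExp.getD i.val (0, [])).1) + 2 • z := by
      refine ⟨⟨⟨_, H96.Check.checkB_spec (testExp_check i)⟩, testExp_supp i⟩,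
        Subtype.ext (Subtype.ext (funext fun p => ?_))⟩
      rw [testExp_eq i p, two_nsmul]
      show _ = ((lift8 _).1 : GolayPt → ℤ) p + (ofL _ p + ofL _ p)
      rw [lift8_coord, expF]
      ring
    rw [pairTo_comm, hz, map_add, two_nsmul, map_add, zmod2_double, add_zero, lift8, map_sum]
    refine sum_eq_zero fun m _ => ?_
    rw [map_nsmul, pairTo_comm]
    have := congrFun h (swap8 m)
    change pairTo (bfix8 (swap8 (swap8 m))) u = 0 at this
    rw [(show ∀ m : I8, swap8 (swap8 m) = m by decide) m] at this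
    rw [this, smul_zero]
  have h6 : pairTo ufix u = 0 := hT 6
  obtain ⟨k, hk⟩ : ∃ k : ℤ, ldot u.1 Spor.leechU = 32 * k := by
    have h2 := even_of_cast h6
    obtain ⟨q, hq⟩ := dvd16 u.2 leechU_mem
    change (2 : ℤ) ∣ ldot u.1 Spor.leechU / 16 at h2
    exact ⟨q / 2, by omega⟩
  set u' := u - k • ufix with hu'
  have hperp : ldot u'.1 Spor.leechU = 0 := by
    let φ : fixPart →+ ℤ := AddMonoidHom.mk' (fun z => ldot z.1 Spor.leechU)
      fun a b => leechLike.add_left _ _ _
    show φ u' = 0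
    rw [hu', map_sub, map_zsmul, show φ u = 32 * k from hk,
      show φ ufix = 32 from by show dotInt Spor.vecU Spor.vecU = 32; decide +kernel]
    rw [smul_eq_mul]
    ring
  have hpsi : psi u' = 0 := by
    rw [hu', map_sub, map_zsmul, psi_ufix, smul_zero, sub_zero]
    funext m
    have hm : ∀ m : I6, ∃ i : Fin 8, testVec i = bfix (swap6 m) := by
      intro m
      rcases m with i | i
      · exact ⟨⟨i.val + 3, by omega⟩, by fin_cases i <;> rfl⟩
      · exact ⟨⟨i.val, by omega⟩, by fin_cases i <;> rfl⟩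
    obtain ⟨i, hi⟩ := hm m
    have := hT i
    rw [hi] at this
    exact this
  obtain ⟨n, w, hn⟩ := psi_eq_zero hperp hpsi
  have hu : u = (n + k) • ufix + 2 • w := by
    rw [add_smul, add_right_comm, ← hn, hu']; abel
  have h7 := hT 7
  rw [hu, map_add, map_zsmul, two_nsmul, map_add, zmod2_double, add_zero] at h7
  have hU7 : pairTo (testVec 7) ufix = 1 := by
    show ((dotInt Spor.vecU (ofL (List.ofFn fun j : Fin 24 => if j.val = 23 ∨ j.val = 2 then (4 : ℤ)
      else 0)) / 16 : ℤ) : ZMod 2) = 1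
    decide +kernel
  rw [hU7, zsmul_one] at h7
  obtain ⟨t, ht⟩ := even_of_cast h7
  refine ⟨t • ufix + w, ?_⟩
  rw [hu, ht, two_nsmul, two_nsmul, mul_comm, mul_zsmul, two_zsmul, smul_add]
  abel

theorem decompose8 (u : fixPart) : ∃ w : fixPart, u = lift8 (psi8 u) + 2 • w := by
  obtain ⟨w, hw⟩ := psi8_eq_zero (u := u - lift8 (psi8 u)) (by rw [map_sub, psi8_lift, sub_self])
  exact ⟨w, by rw [← hw]; abel⟩

theorem lift_norm : ∀ a : V8,
    ((dotInt (expF a 0) (expF a 0) / 32 : ℤ) : ZMod 2) = quadFormPlus 4 (ZMod 2) a ∧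
      (32 : ℤ) ∣ dotInt (expF a 0) (expF a 0) := by
  decide +kernel

theorem quad_psi8 (u : fixPart) :
    quadFormPlus 4 (ZMod 2) (psi8 u) = ((ldot u.1 u.1 / 32 : ℤ) : ZMod 2) := by
  obtain ⟨w, e⟩ := decompose8 u
  set s := lift8 (psi8 u) with hs
  have hsc : (s.1 : GolayPt → ℤ) = expF (psi8 u) 0 := funext fun p => by
    rw [hs, lift8_coord]; simp [expF]
  obtain ⟨h1, h2⟩ := lift_norm (psi8 u)
  rw [← h1, ← hsc]
  rw [← hsc] at h2
  have hn : ldot u.1 u.1 = ldot s.1 s.1 + 4 * ldot s.1 w.1 + 4 * ldot w.1 w.1 := by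
    have e' : u.1 = s.1 + (w.1 + w.1) := by
      rw [e, two_nsmul]; rfl
    rw [e', leechLike.norm_add, leechLike.norm_add]
    rw [ldot_comm s.1 (w.1 + w.1), leechLike.add_left, ldot_comm w.1 s.1]
    ring
  obtain ⟨a, ha⟩ := dvd16 s.2 w.2
  obtain ⟨b, hb⟩ := dvd16 w.2 w.2
  obtain ⟨c, hc⟩ := h2
  change ldot s.1 s.1 = 32 * c at hc
  have : ldot u.1 u.1 / 32 = c + 2 * (a + b) := by rw [hn, ha, hb, hc]; omega
  rw [show dotInt (s.1 : GolayPt → ℤ) (s.1 : GolayPt → ℤ) = 32 * c from hc, this, Int.cast_add,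
    Int.cast_mul, show ((2 : ℤ) : ZMod 2) = 0 from rfl, zero_mul, add_zero,
    Int.mul_ediv_cancel_left _ (by norm_num : (32 : ℤ) ≠ 0)]

/-- the centraliser of the sign change -/
noncomputable def tCent : Subgroup Co0 := Subgroup.centralizer {tEl}

theorem mem_tCent {h : Co0} : h ∈ tCent ↔ h * tEl = tEl * h :=
  Subgroup.mem_centralizer_singleton_iff

theorem smul_mem8 (h : tCent) {u : leechLattice} (hu : u ∈ fixPart) : h.1 • u ∈ fixPart := by
  rw [mem_fixPart_iff] at hu ⊢
  rw [← mul_smul, ← mem_tCent.mp h.2, mul_smul, hu]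

/-- the action on the part -/
noncomputable def act8 (h : tCent) : fixPart →+ fixPart :=
  AddMonoidHom.mk' (fun u => ⟨h.1 • u.1, smul_mem8 h u.2⟩)
    fun a b => Subtype.ext (co0_add h.1 a.1 b.1)

/-- the matrix -/
noncomputable def repMat8 (h : tCent) : Matrix I8 I8 (ZMod 2) :=
  Matrix.of fun i j => psi8 (act8 h (bfix8 j)) i

theorem psi8_act (h : tCent) (u : fixPart) :
    psi8 (act8 h u) = Matrix.mulVec (repMat8 h) (psi8 u) := by
  obtain ⟨w, e⟩ := decompose8 u
  conv_lhs => rw [e, lift8]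
  simp only [map_add, map_sum, map_nsmul, two_nsmul]
  funext i
  rw [Pi.add_apply, Pi.add_apply, zmod2_double, add_zero, Finset.sum_apply, Matrix.mulVec, dotProduct]
  refine sum_congr rfl fun m _ => ?_
  rw [Pi.smul_apply, nsmul_eq_mul, ZMod.natCast_val, ZMod.cast_id, mul_comm]
  rfl

theorem repMat8_one : repMat8 1 = 1 := Matrix.ext fun i j => by
  show psi8 (act8 1 (bfix8 j)) i = (1 : Matrix I8 I8 (ZMod 2)) i j
  rw [show act8 1 (bfix8 j) = bfix8 j from Subtype.ext (one_smul Co0 (bvec8 j)), psi8_bfix,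
    Matrix.one_apply, Pi.single_apply]

theorem repMat8_mul (a b : tCent) : repMat8 (a * b) = repMat8 a * repMat8 b :=
  Matrix.ext fun i j => by
    show psi8 (act8 (a * b) (bfix8 j)) i = (repMat8 a * repMat8 b) i j
    rw [show act8 (a * b) (bfix8 j) = act8 a (act8 b (bfix8 j)) from
      Subtype.ext (mul_smul a.1 b.1 (bvec8 j)), psi8_act a]
    rfl

/-- into the matrices -/
noncomputable def repUnits : tCent →* Matrix.GeneralLinearGroup I8 (ZMod 2) :=
  MonoidHom.toHomUnits
    { toFun := repMat8, map_one' := repMat8_one, map_mul' := repMat8_mul }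

theorem repUnits_coe (h : tCent) :
    ((repUnits h : Matrix.GeneralLinearGroup I8 (ZMod 2)) : Matrix I8 I8 (ZMod 2)) = repMat8 h := rfl

/-- the form -/
noncomputable abbrev q8 : QuadraticForm (ZMod 2) V8 := H43.qPlus 4 (ZMod 2)

theorem q8_apply (v : V8) : q8 v = quadFormPlus 4 (ZMod 2) v :=
  congrFun (H43.coe_qPlus 4 (ZMod 2)) v

theorem repUnits_mem (h : tCent) : repUnits h ∈ isometryGroup (ZMod 2) ⇑q8 := by
  rw [H43.mem_isometryGroup_iff, H43.mem_orthGroup]
  intro x
  rw [H43.glEquiv_apply, repUnits_coe, q8_apply, q8_apply]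
  conv_lhs => rw [← psi8_lift x, ← psi8_act h, quad_psi8]
  conv_rhs => rw [← psi8_lift x, quad_psi8]
  show ((ldot (h.1 • (lift8 x).1) (h.1 • (lift8 x).1) / 32 : ℤ) : ZMod 2) = _
  rw [co0_dot]

/-- as linear isometries -/
noncomputable def rep8 : tCent →* H43.orthGroup q8 :=
  (H43.toOrth q8).toMonoidHom.comp (repUnits.codRestrict _ repUnits_mem)

theorem rep8_apply (h : tCent) (x : V8) : (rep8 h).1 x = Matrix.mulVec (repMat8 h) x := rfl

/-- the matrix computed from the images of the basis -/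
def matOf8 (f : List ℤ → List ℤ) : Matrix I8 I8 (ZMod 2) :=
  Matrix.of fun i j => ((dotL (f (Co1Inv.basisL.getD (pos8 j) []))
    (Co1Inv.basisL.getD (pos8 (swap8 i)) []) / 16 : ℤ) : ZMod 2)

theorem vecL_bvec8 (m : I8) : vecL (bvec8 m : GolayPt → ℤ) = Co1Inv.basisL.getD (pos8 m) [] := by
  have h : ∀ m : I8, vecL (ofL (Co1Inv.basisL.getD (pos8 m) [])) = Co1Inv.basisL.getD (pos8 m) [] := by
    decide +kernel
  exact h m

theorem repMat8_eq (h : tCent) (f : List ℤ → List ℤ)
    (hf : ∀ u : leechLattice, vecL ((h.1 • u : leechLattice) : GolayPt → ℤ)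
      = f (vecL (u : GolayPt → ℤ))) : repMat8 h = matOf8 f := by
  refine Matrix.ext fun i j => ?_
  show ((ldot (h.1 • bvec8 j) (bvec8 (swap8 i)) / 16 : ℤ) : ZMod 2) = _
  rw [ldot_dotL, hf, vecL_bvec8, vecL_bvec8]
  rfl

end H95.Co1Inv
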